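import Cfsg.Agent.H440.TwoGen.Fi24
import Cfsg.Agent.H440.TwoGen.CoxInst

/-!
# S4180: generating pairs of the Fischer groups (helper184)

* `inv_pair` : the commutator trick for a path with an arm `h, i`;
* `fi22`, `fi23`, `fi24` : a generating pair `c, b` with `c ^ 2 = 1`;
* `fi24'` : such a pair in the commutator subgroup of `Fi24`.
-/

set_option autoImplicit false

namespace Cfsg.Agent.H184.DG.FiGen

open Cfsg.Spor Equiv Equiv.Perm Subgroup
open Cfsg.Agent.H440.TwoGen Cfsg.Agent.H440.TwoGen.Path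

section Gen

variable {G : Type*} [Group G]

/-- the commutator trick -/
theorem inv_pair {N : ℕ} (φ : Perm (Fin N) →* G) (S : Subgroup G) {σ τ : Perm (Fin N)} {m : ℕ}
    (hm : m.Coprime 2) (hσ : σ ^ m = 1) (hτ : τ * τ = 1) {h i : G} (hi : i * i = 1) (hh : h * h = 1)
    (hbr : h * i * h = i * h * i) (hφi : ∀ g, φ g * i = i * φ g) (hφh : φ τ * h = h * φ τ)
    (h1 : φ τ * h ∈ S) (h2 : φ σ * i ∈ S) : φ σ ∈ S ∧ φ τ ∈ S ∧ h ∈ S ∧ i ∈ S := by
  have hσ' : φ σ ^ m = 1 := by rw [← map_pow, hσ, map_one]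
  have hτ' : φ τ * φ τ = 1 := by rw [← map_mul, hτ, map_one]
  have s1 : φ σ ∈ S := left_mem_of_pow S (hφi σ) hσ' (by rw [pow_two]; exact hi) hm h2
  have s2 : i ∈ S := right_mem_of_pow S (hφi σ) hσ' (by rw [pow_two]; exact hi) hm h2
  have s3 : h ∈ S := by
    have h3 : φ τ * h * i * (φ τ * h) * i ∈ S := mul_mem (mul_mem (mul_mem h1 s2) h1) s2
    have h4 : φ τ * h * i * (φ τ * h) * i = i * h := by
      calc φ τ * h * i * (φ τ * h) * i = φ τ * h * (i * φ τ) * h * i := by simp only [mul_assoc]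
        _ = φ τ * (h * φ τ) * i * h * i := by rw [← hφi]; simp only [mul_assoc]
        _ = (φ τ * φ τ) * (h * i * h) * i := by rw [← hφh]; simp only [mul_assoc]
        _ = i * h * (i * i) := by rw [hτ', hbr, one_mul]; simp only [mul_assoc]
        _ = i * h := by rw [hi, mul_one]
    rw [h4] at h3
    have h5 := mul_mem s2 h3
    rwa [← mul_assoc, hi, one_mul] at h5
  refine ⟨s1, ?_, s3, s2⟩
  have h5 := mul_mem h1 s3
  rwa [mul_assoc, hh, mul_one] at h5

/-- the symmetric group is generated by `finRotate` and the first transposition -/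
theorem closure_rot {n : ℕ} (S : Subgroup (Perm (Fin (n + 2)))) (h1 : finRotate (n + 2) ∈ S)
    (h2 : swap (⟨0, by omega⟩ : Fin (n + 2)) ⟨1, by omega⟩ ∈ S) : S = ⊤ := by
  rw [eq_top_iff]
  have h3 := Equiv.Perm.closure_cycle_adjacent_swap (σ := finRotate (n + 2)) isCycle_finRotate support_finRotate
    (⟨0, by omega⟩ : Fin (n + 2))
  rw [← h3, closure_le]
  rintro g (rfl | hg)
  · exact h1
  · rw [Set.mem_singleton_iff] at hg
    subst hg
    have h4 : finRotate (n + 2) (⟨0, by omega⟩ : Fin (n + 2)) = ⟨1, by omega⟩ := finRotate_of_lt (by omega)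
    rw [h4]
    exact h2

end Gen

section Cox

variable {α : Type*} [DecidableEq α] {edges : List (α × ℕ × α)} {extra : List (FreeGroup α)}

/-- **Arm of length two** -/
theorem arm2 {n : ℕ} (pth : ℕ → α) (a b : α)
    (hnode : ∀ x : α, x ∈ coxNodes edges)
    (hbr : ∀ i < n, coxLabel edges (pth i) (pth (i + 1)) = 3)
    (hcm : ∀ i < n + 1, ∀ j < n + 1, i + 1 < j → coxLabel edges (pth i) (pth j) = 2)
    (ha0 : coxLabel edges (pth 0) a = 2)
    (hb : ∀ i < n + 1, coxLabel edges (pth i) b = 2) (hab : coxLabel edges a b = 3)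
    (hall : ∀ x : α, x = a ∨ x = b ∨ ∃ i < n + 1, x = pth i)
    (σ : Equiv.Perm (Fin (n + 2))) {m : ℕ} (hm : Nat.Coprime m 2) (hσ : σ ^ m = 1)
    (hgen : ∀ S : Subgroup (Equiv.Perm (Fin (n + 2))), σ ∈ S →
      swap (⟨0, by omega⟩ : Fin (n + 2)) ⟨1, by omega⟩ ∈ S → S = ⊤) :
    ∃ y : CoxPresented α edges extra,
      closure ({Cox.g edges extra (pth 0) * Cox.g edges extra a, y} : Set (CoxPresented α edges extra)) = ⊤ := by
  have hsq : ∀ x, Cox.g edges extra x * Cox.g edges extra x = 1 := fun x => Cox.sq (hnode x)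
  obtain ⟨φ, hφ⟩ := exists_hom (n + 1) (fun i => Cox.g edges extra (pth i)) (fun i _ => hsq _)
    (fun i hi => Cox.braid (hnode _) (hnode _) (hbr i (by omega)))
    (fun i j hij hj => Cox.comm (hnode _) (hnode _) (hcm i (by omega) j hj hij))
  have hφ0 : φ (swap (⟨0, by omega⟩ : Fin (n + 2)) ⟨1, by omega⟩) = Cox.g edges extra (pth 0) :=
    hφ ⟨0, by omega⟩
  refine ⟨φ σ * Cox.g edges extra b, ?_⟩
  obtain ⟨S, hS⟩ : ∃ S : Subgroup (CoxPresented α edges extra), S =
    closure ({Cox.g edges extra (pth 0) * Cox.g edges extra a, φ σ * Cox.g edges extra b} :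
      Set (CoxPresented α edges extra)) := ⟨_, rfl⟩
  obtain ⟨s1, s2, s3, s4⟩ := inv_pair φ S (σ := σ) (τ := swap (⟨0, by omega⟩ : Fin (n + 2)) ⟨1, by omega⟩)
    hm hσ (swap_mul_self _ _) (hsq b) (hsq a) (Cox.braid (hnode _) (hnode _) hab)
    (commute_range φ (fun i => by rw [hφ i]; exact Cox.comm (hnode _) (hnode _) (hb i i.isLt)))
    (by rw [hφ0]; exact Cox.comm (hnode _) (hnode _) ha0)
    (by rw [hφ0, hS]; exact subset_closure (Set.mem_insert _ _))
    (by rw [hS]; exact subset_closure (Set.mem_insert_of_mem _ (Set.mem_singleton _)))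
  rw [← hS]
  refine Cox.eq_top_of_forall _ fun x => ?_
  rcases hall x with rfl | rfl | ⟨i, hi, rfl⟩
  · exact s3
  · exact s4
  · have h1 := hgen (S.comap φ) s1 s2
    have h2 : swap (⟨i, by omega⟩ : Fin (n + 1)).castSucc (⟨i, by omega⟩ : Fin (n + 1)).succ ∈ S.comap φ := by
      rw [h1]; trivial
    have h3 : φ (swap (⟨i, by omega⟩ : Fin (n + 1)).castSucc (⟨i, by omega⟩ : Fin (n + 1)).succ) ∈ S := h2
    rw [hφ ⟨i, by omega⟩] at h3
    exact h3

theorem sq_mul {x y : α} (hx : x ∈ coxNodes edges) (hy : y ∈ coxNodes edges) (h : coxLabel edges x y = 2) :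
    (Cox.g edges extra x * Cox.g edges extra y) ^ 2 = 1 := by
  have h1 := Cox.rel (extra := extra) hx hy
  rwa [h] at h1

end Cox

open CoxInst

/-- **`Fi22`** -/
theorem fi22 : ∃ c b : Fi22, c ^ 2 = 1 ∧ closure ({c, b} : Set Fi22) = ⊤ := by
  obtain ⟨y, hy⟩ := arm2 (edges := Fi22.edges) (extra := Fi22.extra) (n := 6) p22 Fi22.Gen.h Fi22.Gen.i
    (by intro x; cases x <;> decide) (by decide) (by decide) (by decide) (by decide) (by decide)
    (by intro x; cases x <;> first | exact Or.inl rfl | exact Or.inr (Or.inl rfl) | exact Or.inr (Or.inr (by decide)))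
    (swap (⟨0, by norm_num⟩ : Fin (6 + 2)) ⟨1, by norm_num⟩ * finRotate (6 + 2)) (m := 7) (by decide) (by decide)
    (fun S h1 h2 => closure_rot S (by
      have h3 := mul_mem h2 h1
      rwa [← mul_assoc, swap_mul_self, one_mul] at h3) h2)
  exact ⟨_, y, sq_mul (by decide) (by decide) (by decide), hy⟩

/-- **`Fi23`** -/
theorem fi23 : ∃ c b : Fi23, c ^ 2 = 1 ∧ closure ({c, b} : Set Fi23) = ⊤ := by
  obtain ⟨y, hy⟩ := arm2 (edges := Fi23.edges) (extra := Fi23.extra) (n := 7) p23 Fi23.Gen.h Fi23.Gen.i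
    (by intro x; cases x <;> decide) (by decide) (by decide) (by decide) (by decide) (by decide)
    (by intro x; cases x <;> first | exact Or.inl rfl | exact Or.inr (Or.inl rfl) | exact Or.inr (Or.inr (by decide)))
    (finRotate (7 + 2)) (m := 9) (by decide) (by decide)
    (fun S h1 h2 => closure_rot S h1 h2)
  exact ⟨_, y, sq_mul (by decide) (by decide) (by decide), hy⟩

/-- **`Fi24`** -/
theorem fi24 : ∃ c b : Fi24, c ^ 2 = 1 ∧ c ∈ commutator Fi24 ∧ closure ({c, b} : Set Fi24) = ⊤ := by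
  obtain ⟨y, hy⟩ := arm2 (edges := Fi24.edges) (extra := Fi24.extra) (n := 9) Fi24.pth Fi24.Gen.h Fi24.Gen.i
    (by intro x; cases x <;> decide) (by decide) (by decide) (by decide) (by decide) (by decide)
    (by intro x; cases x <;> first | exact Or.inl rfl | exact Or.inr (Or.inl rfl) | exact Or.inr (Or.inr (by decide)))
    (finRotate (9 + 2)) (m := 11) (by decide) (by decide +kernel)
    (fun S h1 h2 => closure_rot S h1 h2)
  refine ⟨_, y, sq_mul (by decide) (by decide) (by decide), ?_, hy⟩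
  apply Fi24.mem_commutator
  have t2 : Abelianization.of (Fi24.γ Fi24.Gen.d) * Abelianization.of (Fi24.γ Fi24.Gen.d) = 1 := by
    rw [← map_mul, Fi24.sq, map_one]
  rw [map_mul]
  have h1 := Fi24.ab_eq (Fi24.pth 0)
  have h2 := Fi24.ab_eq Fi24.Gen.h
  rw [show Abelianization.of (Cox.g Fi24.edges Fi24.extra (Fi24.pth 0)) = Abelianization.of (Fi24.γ Fi24.Gen.d) from h1,
    show Abelianization.of (Cox.g Fi24.edges Fi24.extra Fi24.Gen.h) = Abelianization.of (Fi24.γ Fi24.Gen.d) from h2]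
  exact t2

section Fi24'

open Cfsg.Agent.CharactersDeep.SchurAltPerm Cfsg.Agent.H440.TwoGen.Alt Cfsg.Agent.H440.TwoGen.Fi24

theorem ab_sq : Abelianization.of (γ Fi24.Gen.d) * Abelianization.of (γ Fi24.Gen.d) = 1 := by
  rw [← map_mul, Fi24.sq, map_one]

/-- **A generating pair of `Fi24'`, one of the elements an involution.** -/
theorem fi24' : ∃ X Y : Fi24, X ∈ commutator Fi24 ∧ Y ∈ commutator Fi24 ∧ X ^ 2 = 1 ∧
    commutator Fi24 ≤ closure {X, Y} := by
  obtain ⟨φ, hφ⟩ := exists_hom 10 (fun i => γ (pth i)) (fun i _ => sq _)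
    (fun i hi => Cox.braid (node _) (node _) ((by decide : ∀ i < 9, coxLabel Fi24.edges (pth i) (pth (i + 1)) = 3)
      i (by omega)))
    (fun i j hij hj => Cox.comm (node _) (node _)
      ((by decide : ∀ i < 10, ∀ j < 10, i + 1 < j → coxLabel Fi24.edges (pth i) (pth j) = 2) i (by omega) j hj hij))
  have hφ' : ∀ i (h : i < 10), φ (swap (⟨i, by omega⟩ : Fin 11) ⟨i + 1, by omega⟩) = γ (pth i) :=
    fun i h => hφ ⟨i, h⟩
  -- the permutations
  obtain ⟨A, hA⟩ : ∃ A : Perm (Fin 11), A = finRotate 11 * (x 8 9 10)⁻¹ := ⟨_, rfl⟩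
  obtain ⟨τ, hτ⟩ : ∃ τ : Perm (Fin 11), τ = swap 7 8 * swap 8 9 * swap 7 8 * swap 8 9 * swap 9 10 * swap 8 9 *
    swap 0 1 := ⟨_, rfl⟩
  obtain ⟨τ', hτ'⟩ : ∃ τ' : Perm (Fin 11), τ' = swap 9 10 * τ * swap 9 10 := ⟨_, rfl⟩
  have e0 : φ (swap 0 1) = γ .l := hφ' 0 (by norm_num)
  have e7 : φ (swap 7 8) = γ .f := hφ' 7 (by norm_num)
  have e8 : φ (swap 8 9) = γ .g := hφ' 8 (by norm_num)
  have e9 : φ (swap 9 10) = γ .j := hφ' 9 (by norm_num)
  have c0 : φ (swap 0 1) * γ .h = γ .h * φ (swap 0 1) := by rw [e0]; exact Cox.comm (node _) (node _) (by decide)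
  have c7 : φ (swap 7 8) * γ .h = γ .h * φ (swap 7 8) := by rw [e7]; exact Cox.comm (node _) (node _) (by decide)
  have c8 : φ (swap 8 9) * γ .h = γ .h * φ (swap 8 9) := by rw [e8]; exact Cox.comm (node _) (node _) (by decide)
  have c9 : φ (swap 9 10) * γ .h = γ .h * φ (swap 9 10) := by rw [e9]; exact Cox.comm (node _) (node _) (by decide)
  have hcomm : ∀ g g' : Perm (Fin 11), φ g * γ .h = γ .h * φ g → φ g' * γ .h = γ .h * φ g' →
      φ (g * g') * γ .h = γ .h * φ (g * g') := by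
    intro g g' h1 h2
    rw [map_mul, mul_assoc, h2, ← mul_assoc, h1, mul_assoc]
  have hτh : φ τ * γ .h = γ .h * φ τ := by
    rw [hτ]
    exact hcomm _ _ (hcomm _ _ (hcomm _ _ (hcomm _ _ (hcomm _ _ (hcomm _ _ c7 c8) c7) c8) c9) c8) c0
  have hτh' : φ τ' * γ .h = γ .h * φ τ' := by
    rw [hτ']
    exact hcomm _ _ (hcomm _ _ c9 hτh) c9
  have hi : ∀ g, φ g * γ .i = γ .i * φ g := commute_range φ (fun m => by
    rw [hφ m]
    exact Cox.comm (node _) (node _) ((by decide : ∀ i < 10, coxLabel Fi24.edges (pth i) .i = 2) m m.isLt))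
  have hττ : τ * τ = 1 := by rw [hτ]; decide +kernel
  have hA9 : A ^ 9 = 1 := by rw [hA]; decide +kernel
  have hAc : A * swap 9 10 = swap 9 10 * A := by rw [hA]; decide +kernel
  have hD : (τ * τ') ^ 2 = 1 := by rw [hτ', hτ]; decide +kernel
  have hAw : A = swap 0 1 * swap 1 2 * swap 2 3 * swap 3 4 * swap 4 5 * swap 5 6 * swap 6 7 * swap 7 8 := by
    rw [hA]; decide +kernel
  have hij : γ .i * γ .j = γ .j * γ .i := Cox.comm (node _) (node _) (by decide)
  have hhj : γ .h * γ .j = γ .j * γ .h := Cox.comm (node _) (node _) (by decide)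
  have hhi : γ .h * γ .i * γ .h = γ .i * γ .h * γ .i := Cox.braid (node _) (node _) (by decide)
  refine ⟨φ τ * γ .h, φ A * (γ .i * γ .j), ?_, ?_, ?_, ?_⟩
  · apply mem_commutator
    rw [hτ]
    simp only [map_mul]
    rw [e0, e7, e8, e9]
    simp only [ab_eq]
    simp only [mul_assoc, ab_sq, mul_one]
  · apply mem_commutator
    rw [hAw]
    simp only [map_mul]
    rw [show φ (swap 0 1) = γ (pth 0) from hφ' 0 (by norm_num), show φ (swap 1 2) = γ (pth 1) from hφ' 1 (by norm_num),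
      show φ (swap 2 3) = γ (pth 2) from hφ' 2 (by norm_num), show φ (swap 3 4) = γ (pth 3) from hφ' 3 (by norm_num),
      show φ (swap 4 5) = γ (pth 4) from hφ' 4 (by norm_num), show φ (swap 5 6) = γ (pth 5) from hφ' 5 (by norm_num),
      show φ (swap 6 7) = γ (pth 6) from hφ' 6 (by norm_num), show φ (swap 7 8) = γ (pth 7) from hφ' 7 (by norm_num)]
    simp only [ab_eq]
    simp only [mul_assoc, ab_sq, mul_one]
  · have h1 : Commute (φ τ) (γ .h) := hτh
    rw [h1.mul_pow, ← map_pow, pow_two τ, hττ, map_one, one_mul, pow_two, sq]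
  · obtain ⟨S, hS⟩ : ∃ S : Subgroup Fi24, S = closure ({φ τ * γ .h, φ A * (γ .i * γ .j)} : Set Fi24) := ⟨_, rfl⟩
    rw [← hS]
    have m1 : φ τ * γ .h ∈ S := by rw [hS]; exact subset_closure (Set.mem_insert _ _)
    have m2 : φ A * (γ .i * γ .j) ∈ S := by
      rw [hS]; exact subset_closure (Set.mem_insert_of_mem _ (Set.mem_singleton _))
    have k1 : φ A * (γ .i * γ .j) = (γ .i * γ .j) * φ A := by
      rw [← mul_assoc, hi, mul_assoc, ← e9, ← map_mul, hAc, map_mul, mul_assoc]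
    have o1 : (γ .i * γ .j) ^ 2 = 1 := by
      rw [pow_two, mul_assoc, ← mul_assoc (γ .j), ← hij, mul_assoc, sq, mul_one, sq]
    have o3 : φ A ^ 9 = 1 := by rw [← map_pow, hA9, map_one]
    have s1 : φ A ∈ S := left_mem_of_pow S k1 o3 o1 (by decide) m2
    have s2 : γ .i * γ .j ∈ S := right_mem_of_pow S k1 o3 o1 (by decide) m2
    have s3 : φ (τ * τ') * (γ .i * γ .h) ∈ S := by
      have h3 := mul_mem (mul_mem (mul_mem m1 s2) m1) s2
      have h4 : φ τ * γ .h * (γ .i * γ .j) * (φ τ * γ .h) * (γ .i * γ .j) = φ (τ * τ') * (γ .i * γ .h) := by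
        have h5 : γ .j * φ τ = φ τ' * γ .j := by
          rw [← e9, ← map_mul, ← map_mul, hτ']
          congr 1
          rw [mul_assoc (swap 9 10 * τ), swap_mul_self, mul_one]
        calc φ τ * γ .h * (γ .i * γ .j) * (φ τ * γ .h) * (γ .i * γ .j)
            = φ τ * γ .h * γ .i * (γ .j * φ τ) * γ .h * (γ .i * γ .j) := by simp only [mul_assoc]
          _ = φ τ * γ .h * (γ .i * φ τ') * (γ .j * γ .h) * (γ .i * γ .j) := by rw [h5]; simp only [mul_assoc]
          _ = φ τ * γ .h * (φ τ' * γ .i) * (γ .h * γ .j) * (γ .j * γ .i) := by rw [hi, hhj, hij]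
          _ = φ τ * (γ .h * φ τ') * γ .i * γ .h * (γ .j * γ .j) * γ .i := by simp only [mul_assoc]
          _ = φ τ * φ τ' * (γ .h * γ .i * γ .h) * γ .i := by rw [sq, mul_one, ← hτh']; simp only [mul_assoc]
          _ = φ τ * φ τ' * (γ .i * γ .h) * (γ .i * γ .i) := by rw [hhi]; simp only [mul_assoc]
          _ = φ (τ * τ') * (γ .i * γ .h) := by rw [sq, mul_one, map_mul]
      rwa [h4] at h3
    have hDh : φ (τ * τ') * (γ .i * γ .h) = (γ .i * γ .h) * φ (τ * τ') := by
      have h5 := hcomm _ _ hτh hτh'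
      rw [← mul_assoc, hi, mul_assoc, h5, mul_assoc]
    have o4 : (γ .i * γ .h) ^ 3 = 1 := Cox.cube (node _) (node _) (by decide)
    have o5 : φ (τ * τ') ^ 2 = 1 := by rw [← map_pow, hD, map_one]
    have s4 : γ .i * γ .h ∈ S := right_mem_of_pow S hDh o5 o4 (by decide) s3
    have s5 : γ .h * γ .j ∈ S := by
      have h5 := mul_mem (inv_mem s4) s2
      have h6 : (γ .i * γ .h)⁻¹ * (γ .i * γ .j) = γ .h * γ .j := by
        rw [mul_inv_rev, mul_assoc, inv_mul_cancel_left, inv_eq_of_mul_eq_one_left (sq .h)]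
      rwa [h6] at h5
    have s6 : φ (τ * swap 9 10) ∈ S := by
      have h5 := mul_mem m1 s5
      have h6 : φ τ * γ .h * (γ .h * γ .j) = φ (τ * swap 9 10) := by
        rw [mul_assoc, ← mul_assoc (γ .h), sq, one_mul, map_mul, e9]
      rwa [h6] at h5
    obtain ⟨Q, hQ⟩ : ∃ Q : Subgroup (Perm (Fin 11)), Q = S.comap φ := ⟨_, rfl⟩
    obtain ⟨B, hB⟩ : ∃ B : Perm (Fin 11), B = τ * swap 9 10 := ⟨_, rfl⟩
    have qA : A ∈ Q := by rw [hQ]; exact s1
    have qB : B ∈ Q := by rw [hQ, hB]; exact s6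
    have qE : B * B * (A * (B * B) * A⁻¹) ∈ Q :=
      mul_mem (mul_mem qB qB) (mul_mem (mul_mem qA (mul_mem qB qB)) (inv_mem qA))
    have qx : x (⟨0, by omega⟩ : Fin 11) ⟨1, by omega⟩ ⟨2, by omega⟩ ∈ Q := by
      have h2 : x (⟨0, by omega⟩ : Fin 11) ⟨1, by omega⟩ ⟨2, by omega⟩ =
          A ^ 2 * (B * B * (A * (B * B) * A⁻¹)) * (A ^ 2)⁻¹ := by
        rw [hB, hτ, hA]; decide +kernel
      rw [h2]
      exact mul_mem (mul_mem (pow_mem qA 2) qE) (inv_mem (pow_mem qA 2))
    have qc : finRotate 11 ∈ Q := by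
      have h2 : finRotate 11 = A * (A ^ 7 * (B * (B * B * (A * (B * B) * A⁻¹)) * B⁻¹) * (A ^ 7)⁻¹) := by
        rw [hB, hτ, hA]; decide +kernel
      rw [h2]
      exact mul_mem qA (mul_mem (mul_mem (pow_mem qA 7) (mul_mem (mul_mem qB qE) (inv_mem qB))) (inv_mem (pow_mem qA 7)))
    have hAlt : alternatingGroup (Fin 11) ≤ S.comap φ := by
      rw [← hQ]
      exact odd_case (by norm_num) _ _ (fun i h => finRotate_of_lt (by omega)) qc qx
    have hp : ∀ i (_ : i < 10), γ (pth i) * γ .j ∈ S := by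
      intro i hi
      rw [← hφ' i hi, ← e9, ← map_mul]
      refine hAlt (mem_alternatingGroup.2 ?_)
      rw [Perm.sign_mul, sign_swap (ne_mk _ _ (by omega)), sign_swap (by decide)]
      decide
    refine commutator_le_of (Set.range fun x : Fi24.Gen => γ x) (PresentedGroup.closure_range_of _) S (sq .j) ?_ ?_
    · rintro _ ⟨x, rfl⟩; exact sq x
    · rintro _ ⟨x, rfl⟩
      cases x
      case h => exact s5
      case i => exact s2
      case l => exact hp 0 (by norm_num)
      case k => exact hp 1 (by norm_num)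
      case a => exact hp 2 (by norm_num)
      case b => exact hp 3 (by norm_num)
      case c => exact hp 4 (by norm_num)
      case d => exact hp 5 (by norm_num)
      case e => exact hp 6 (by norm_num)
      case f => exact hp 7 (by norm_num)
      case g => exact hp 8 (by norm_num)
      case j => exact hp 9 (by norm_num)

end Fi24'

end Cfsg.Agent.H184.DG.FiGen
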