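import Cfsg.Agent.H891.DG.Tools
import Cfsg.Agent.H184.DG.FiGen
import Cfsg.Agent.S1696
import Cfsg.Agent.S1697
import Cfsg.Agent.S1698

/-!
# S4180: `Coh` for `Fi22`, `Fi23`, `Fi24'` (helper184, task 3340)
-/

set_option autoImplicit false

namespace Cfsg.Agent.H184.DG.CohFi

open Cfsg Cfsg.Spor Subgroup Cfsg.Agent.H891.DG Cfsg.Agent.H440.TwoGen

universe u

/-- from a generating pair `c, b` with `c ^ 2 = 1` -/
theorem coh_of_pair {T : Type u} [Group T] [Finite T] [IsSimpleGroup T] (hcyc : ¬ IsCyclic T)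
    (h : ∃ c b : T, c ^ 2 = 1 ∧ closure ({c, b} : Set T) = ⊤) : Coh T := by
  obtain ⟨c, b, hc, hcb⟩ := h
  have hna : ¬ IsMulCommutative T := by
    intro hm
    apply hcyc
    let _ : CommGroup T := { (inferInstance : Group T) with mul_comm := hm.is_comm.comm }
    have h1 : (Nat.card T).Prime := IsSimpleGroup.prime_card (α := T)
    have : Fact (Nat.card T).Prime := ⟨h1⟩
    exact isCyclic_of_prime_card (p := Nat.card T) rfl
  refine Tools.coh_of_involution hna hc ?_ hcb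
  rintro rfl
  apply hcyc
  refine ⟨b, fun x => ?_⟩
  have h1 : closure ({1, b} : Set T) ≤ zpowers b := by
    rw [closure_le]
    rintro z (rfl | hz)
    · exact one_mem _
    · rw [Set.mem_singleton_iff] at hz
      rw [hz]
      exact mem_zpowers b
  rw [hcb] at h1
  exact h1 (mem_top x)

theorem pair_of_equiv {T : Type*} {K : Type*} [Group T] [Group K] (e : T ≃* K)
    (h : ∃ c b : K, c ^ 2 = 1 ∧ closure ({c, b} : Set K) = ⊤) : ∃ c b : T, c ^ 2 = 1 ∧ closure ({c, b} : Set T) = ⊤ := by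
  obtain ⟨c, b, hc, hcb⟩ := h
  refine ⟨e.symm c, e.symm b, by rw [← map_pow, hc, map_one], ?_⟩
  have h1 : ({e.symm c, e.symm b} : Set T) = e.symm.toMonoidHom '' {c, b} := by
    rw [Set.image_pair]
    rfl
  rw [h1, ← MonoidHom.map_closure, hcb, Subgroup.map_top_of_surjective _ e.symm.surjective]

theorem not_cyclic {T : Type*} {K : Type*} [Group T] [IsSimpleGroup T] [Finite T] [Group K] (e : T ≃* K) {p q : ℕ}
    (hp : p.Prime) (hq : q.Prime) (hpq : p ≠ q) (h1 : p ∣ Nat.card K) (h2 : q ∣ Nat.card K) : ¬ IsCyclic T := by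
  intro h
  let _ : CommGroup T := IsCyclic.commGroup
  have h3 : (Nat.card T).Prime := IsSimpleGroup.prime_card (α := T)
  rw [Nat.card_congr e.toEquiv] at h3
  have h4 := (Nat.prime_dvd_prime_iff_eq hp h3).1 h1
  have h5 := (Nat.prime_dvd_prime_iff_eq hq h3).1 h2
  exact hpq (h4.trans h5.symm)

/-- **`Fi22`** -/
theorem coh_fi22 {T : Type u} [Group T] [Finite T] [IsSimpleGroup T] (h : Cfsg.Spor.IsoFi22 T) : Coh T := by
  obtain ⟨e⟩ := h
  refine coh_of_pair (not_cyclic e Nat.prime_two Nat.prime_three (by norm_num) ?_ ?_) (pair_of_equiv e FiGen.fi22)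
  · rw [Cfsg.Agent.S1696.result.2]; norm_num
  · rw [Cfsg.Agent.S1696.result.2]; norm_num

/-- **`Fi23`** -/
theorem coh_fi23 {T : Type u} [Group T] [Finite T] [IsSimpleGroup T] (h : Cfsg.Spor.IsoFi23 T) : Coh T := by
  obtain ⟨e⟩ := h
  refine coh_of_pair (not_cyclic e Nat.prime_two Nat.prime_three (by norm_num) ?_ ?_) (pair_of_equiv e FiGen.fi23)
  · rw [Cfsg.Agent.S1697.result.2]; norm_num
  · rw [Cfsg.Agent.S1697.result.2]; norm_num

/-- **`Fi24'`** -/
theorem coh_fi24' {T : Type u} [Group T] [Finite T] [IsSimpleGroup T] (h : Cfsg.Spor.IsoFi24' T) : Coh T := by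
  obtain ⟨e⟩ := h
  have h1 : ∃ c b : Spor.Fi24', c ^ 2 = 1 ∧ closure ({c, b} : Set Spor.Fi24') = ⊤ := by
    obtain ⟨X, Y, hX, hY, hX2, hXY⟩ := FiGen.fi24'
    refine ⟨⟨X, hX⟩, ⟨Y, hY⟩, Subtype.ext hX2, ?_⟩
    rw [eq_top_iff]
    rintro ⟨z, hz⟩ -
    have h2 := hXY hz
    have h3 : (closure ({⟨X, hX⟩, ⟨Y, hY⟩} : Set Spor.Fi24')).map (commutator Fi24).subtype = closure {X, Y} := by
      rw [MonoidHom.map_closure, Set.image_pair]
      rfl
    rw [← h3] at h2
    obtain ⟨w, hw, hwz⟩ := h2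
    have h4 : w = ⟨z, hz⟩ := Subtype.ext hwz
    rw [← h4]
    exact hw
  refine coh_of_pair (not_cyclic e Nat.prime_two Nat.prime_three (by norm_num) ?_ ?_) (pair_of_equiv e h1)
  · rw [Cfsg.Agent.S1698.result.2]; norm_num
  · rw [Cfsg.Agent.S1698.result.2]; norm_num

end Cfsg.Agent.H184.DG.CohFi
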