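import Cfsg.Agent.H891.DG.Defs
import Cfsg.Agent.H184.DG.FiGen
import Cfsg.Agent.KFacts.FiTF.FrameF
import Cfsg.Agent.H997.OutCard
import Cfsg.Agent.S2079
import Cfsg.Agent.S2081

/-!
# S4180: `Cos2` for `Fi22` and `Fi24'` (helper184, task 3367)

* `cos2_of_equiv`, `cos2_of_index_two`;
* `cos2_fi22`, `cos2_fi24'`.
-/

set_option autoImplicit false

namespace Cfsg.Agent.H184.DG.CosFi

open Cfsg Cfsg.Spor Equiv Equiv.Perm Subgroup
open Cfsg.Agent.H440.TwoGen Cfsg.Agent.H440.TwoGen.Path Cfsg.Agent.H891.DG Cfsg.Agent.H891.Gen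

universe u v

theorem cos2_of_equiv {T : Type u} [Group T] {K : Type v} [Group K] (e : T ≃* K) (h : Cos2 K) : Cos2 T := by
  intro x y
  obtain ⟨s, ⟨s', hs'⟩, t, ⟨t', ht'⟩, hst⟩ := h (MulAut.congr e x) (MulAut.congr e y)
  have hconj : ∀ a : T, MulAut.congr e (MulAut.conj a) = MulAut.conj (e a) := by
    intro a
    ext z
    show e (a * e.symm z * a⁻¹) = e a * z * (e a)⁻¹
    rw [map_mul, map_mul, map_inv, e.apply_symm_apply]
  refine ⟨MulAut.conj (e.symm s'), ⟨_, rfl⟩, MulAut.conj (e.symm t'), ⟨_, rfl⟩, ?_⟩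
  rintro _ ⟨g, rfl⟩
  have h1 := hst ⟨e g, rfl⟩
  have h2 : closure ({MulAut.congr e x * s, MulAut.congr e y * t} : Set (MulAut K)) =
      (closure ({x * MulAut.conj (e.symm s'), y * MulAut.conj (e.symm t')} : Set (MulAut T))).map
        (MulAut.congr e).toMonoidHom := by
    rw [MonoidHom.map_closure, Set.image_pair]
    congr 1
    show _ = ({MulAut.congr e (x * MulAut.conj (e.symm s')), MulAut.congr e (y * MulAut.conj (e.symm t'))} :
      Set (MulAut K))
    rw [map_mul, map_mul, hconj, hconj, e.apply_symm_apply, e.apply_symm_apply, hs', ht']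
  rw [h2] at h1
  obtain ⟨z, hz, hze⟩ := h1
  have h3 : z = MulAut.conj g := by
    apply (MulAut.congr e).injective
    rw [hconj]
    exact hze
  rw [← h3]
  exact hz

/-- two cosets -/
theorem cos2_of_index_two {T : Type u} [Group T]
    (hi : ∀ a b : MulAut T, a ∉ (MulAut.conj : T →* MulAut T).range → b ∉ (MulAut.conj : T →* MulAut T).range →
      a * b ∈ (MulAut.conj : T →* MulAut T).range)
    (h1 : TwoGen T)
    (h2 : ∃ X : MulAut T, X ∉ (MulAut.conj : T →* MulAut T).range ∧ ∃ Y ∈ (MulAut.conj : T →* MulAut T).range,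
      (MulAut.conj : T →* MulAut T).range ≤ closure {X, Y}) : Cos2 T := by
  obtain ⟨R, hR⟩ : ∃ R : Subgroup (MulAut T), R = (MulAut.conj : T →* MulAut T).range := ⟨_, rfl⟩
  obtain ⟨X, hX, Y, hY, hXY⟩ := h2
  obtain ⟨a, b, hab⟩ := h1
  intro x y
  show Lift (MulAut.conj : T →* MulAut T).range x y
  have h3 : R ≤ closure {MulAut.conj a, MulAut.conj b} := by
    rw [hR, MonoidHom.range_eq_map, ← hab, MonoidHom.map_closure, Set.image_pair]
  have hA : MulAut.conj a ∈ R := by rw [hR]; exact ⟨a, rfl⟩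
  have hB : MulAut.conj b ∈ R := by rw [hR]; exact ⟨b, rfl⟩
  rw [← hR] at hi hX hY hXY ⊢
  have key : ∀ x y X Y : MulAut T, x⁻¹ * X ∈ R → y⁻¹ * Y ∈ R → R ≤ closure {X, Y} → Lift R x y := by
    intro x y X Y h4 h5 h6
    refine ⟨_, h4, _, h5, ?_⟩
    rwa [mul_inv_cancel_left, mul_inv_cancel_left]
  have hin : ∀ z : MulAut T, z ∉ R → z⁻¹ ∉ R := fun z hz h => hz (by rw [← inv_inv z]; exact inv_mem h)
  by_cases hx : x ∈ R <;> by_cases hy : y ∈ R
  · exact key x y _ _ (mul_mem (inv_mem hx) hA) (mul_mem (inv_mem hy) hB) h3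
  · refine key x y Y X (mul_mem (inv_mem hx) hY) (hi _ _ (hin _ hy) hX) ?_
    rwa [Set.pair_comm]
  · exact key x y X Y (hi _ _ (hin _ hx) hX) (mul_mem (inv_mem hy) hY) hXY
  · refine key x y X (X * Y) (hi _ _ (hin _ hx) hX) ?_ ?_
    · rw [← mul_assoc]
      exact mul_mem (hi _ _ (hin _ hy) hX) hY
    · refine hXY.trans ?_
      rw [closure_le]
      have h4 : X ∈ closure ({X, X * Y} : Set (MulAut T)) := subset_closure (Set.mem_insert _ _)
      have h5 : X * Y ∈ closure ({X, X * Y} : Set (MulAut T)) :=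
        subset_closure (Set.mem_insert_of_mem _ (Set.mem_singleton _))
      rintro z (rfl | hz)
      · exact h4
      · rw [Set.mem_singleton_iff] at hz
        subst hz
        have h6 := mul_mem (inv_mem h4) h5
        rwa [inv_mul_cancel_left] at h6

section Fi22

open Cfsg.Agent.R08 Cfsg.Agent.R08.LiftCls
open Cfsg.Agent.Fischer.Fi23Class (K)
open Cfsg.Agent.Fischer.Fi23Cover (kgen)
open Cfsg.Agent.R08.FiTwentyThree (pi zK S)

/-- the generators -/
abbrev g22 (x : Fi22.Gen) : Fi22 := Cox.g Fi22.edges Fi22.extra x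

/-- There is an automorphism of order 2 of `Fi22` which is not inner and centralises all the nodes but `h`. -/
theorem exists_outer : ∃ α : MulAut Cfsg.Spor.Fi22, (∀ x : Cfsg.Spor.Fi22, α ≠ MulAut.conj x) ∧
    (∀ s : Fi22.Gen, s ≠ .h → α (g22 s) = g22 s) ∧ α * α = 1 := by
  have hc := LemmaVInst.clsK
  obtain ⟨γ, h1, -, h3, h4⟩ := X4Gamma.exists_gamma
  have hz : γ zK = zK := h3
  have hker : pi.ker ≤ (pi.comp γ.toMonoidHom).ker := by
    intro y hy
    rw [MonoidHom.mem_ker] at hy ⊢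
    show pi (γ y) = 1
    rcases (hc.ext.ker y).1 hy with h | h
    · rw [h, map_one, map_one]
    · rw [h, hz]
      exact hc.ext.mapz
  let f : Cfsg.Spor.Fi22 →* Cfsg.Spor.Fi22 := pi.liftOfSurjective hc.ext.surj ⟨pi.comp γ.toMonoidHom, hker⟩
  have hf : ∀ y, f (pi y) = pi (γ y) := fun y =>
    MonoidHom.liftOfRightInverse_comp_apply pi _ _ ⟨pi.comp γ.toMonoidHom, hker⟩ y
  have hff : f.comp f = MonoidHom.id _ := by
    refine MonoidHom.ext fun x => ?_
    obtain ⟨y, rfl⟩ := hc.ext.surj x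
    show f (f (pi y)) = pi y
    rw [hf, hf, h4]
  refine ⟨f.toMulEquiv f hff hff, fun x hx => ?_, ?_, ?_⟩
  · obtain ⟨k, rfl⟩ := hc.ext.surj x
    have h5 : ∀ y, pi (γ y) = pi (k * y * k⁻¹) := by
      intro y
      rw [← hf, map_mul, map_mul, map_inv]
      exact DFunLike.congr_fun hx (pi y)
    have h6 := Cfsg.Agent.S2079.conj_of_quot γ k h5 (kgen .a)
    have ha : kgen .a ∈ S := by
      have h : kgen .a = Cfsg.Agent.R01.AlphaFi23.t .a := by
        apply Subtype.ext
        rfl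
      rw [h]
      exact LemmaVInst.ta_mem
    have h7 : k * kgen .a * k⁻¹ ∈ S := hc.conj k ha
    rw [← h6, h1 .a (by decide)] at h7
    refine hc.nz _ ha ?_
    have h8 : kgen .a * zK = zK * kgen .a := hc.ext.comm _
    rw [h8]
    exact h7
  · intro s hs
    show f (g22 s) = g22 s
    have h5 : g22 s = pi (kgen s) := by
      have h6 := Cfsg.Agent.R08.FiTwentyThree.pi_t s
      have h7 : kgen s = Cfsg.Agent.R01.AlphaFi23.t s := Subtype.ext rfl
      rw [h7]
      exact h6.symm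
    rw [h5, hf, h1 s hs, map_mul]
    have h6 : pi zK = 1 := hc.ext.mapz
    show pi zK * pi (kgen s) = pi (kgen s)
    rw [h6, one_mul]
  · ext x
    exact DFunLike.congr_fun hff x

theorem node (x : Fi22.Gen) : x ∈ coxNodes Fi22.edges := by cases x <;> decide

/-- **the pair in `Fi22.2`** -/
theorem pair22 : ∃ X : MulAut Fi22, X ∉ (MulAut.conj : Fi22 →* MulAut Fi22).range ∧
    ∃ Y ∈ (MulAut.conj : Fi22 →* MulAut Fi22).range, (MulAut.conj : Fi22 →* MulAut Fi22).range ≤ closure {X, Y} := by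
  obtain ⟨f, hf1, hf2, hf3⟩ := exists_outer
  have hsq : ∀ x, g22 x * g22 x = 1 := fun x => Cox.sq (node x)
  obtain ⟨φ, hφ⟩ := exists_hom 7 (fun i => g22 (CoxInst.p22 i)) (fun i _ => hsq _)
    (fun i hi => Cox.braid (node _) (node _)
      ((by decide : ∀ i < 6, coxLabel Fi22.edges (CoxInst.p22 i) (CoxInst.p22 (i + 1)) = 3) i (by omega)))
    (fun i j hij hj => Cox.comm (node _) (node _)
      ((by decide : ∀ i < 7, ∀ j < 7, i + 1 < j → coxLabel Fi22.edges (CoxInst.p22 i) (CoxInst.p22 j) = 2)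
        i (by omega) j hj hij))
  have hφ' : ∀ i (h : i < 7), φ (swap (⟨i, by omega⟩ : Fin 8) ⟨i + 1, by omega⟩) = g22 (CoxInst.p22 i) :=
    fun i h => hφ ⟨i, h⟩
  have e0 : φ (swap 0 1) = g22 .a := hφ' 0 (by norm_num)
  have e3 : φ (swap 3 4) = g22 .d := hφ' 3 (by norm_num)
  obtain ⟨σ, hσ⟩ : ∃ σ : Perm (Fin 8), σ = swap 0 1 * finRotate 8 := ⟨_, rfl⟩
  have hσ7 : σ ^ 7 = 1 := by rw [hσ]; decide +kernel
  -- `f` centralises the image of `φ`
  have hfφ : ∀ g, f (φ g) = φ g := by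
    have h1 : f.toMonoidHom.comp φ = φ := by
      apply MonoidHom.eq_of_eqOn_denseM (s := Set.range fun i : Fin 7 => swap i.castSucc i.succ)
        (mclosure_swap_castSucc_succ 7)
      rintro _ ⟨i, rfl⟩
      show f (φ _) = φ _
      rw [hφ i]
      exact hf2 _ ((by decide : ∀ i < 7, CoxInst.p22 i ≠ .h) i i.isLt)
    exact fun g => DFunLike.congr_fun h1 g
  have hfc : ∀ g, f * MulAut.conj (φ g) = MulAut.conj (φ g) * f := by
    intro g
    ext z
    show f (φ g * z * (φ g)⁻¹) = φ g * f z * (φ g)⁻¹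
    rw [map_mul, map_mul, map_inv, hfφ]
  have hR : f ∉ (MulAut.conj : Fi22 →* MulAut Fi22).range := by
    rintro ⟨x, hx⟩
    exact hf1 x hx.symm
  refine ⟨MulAut.conj (φ σ) * f, fun h => hR ?_, MulAut.conj (φ (swap 0 1) * (g22 .i * g22 .h)), ⟨_, rfl⟩, ?_⟩
  · have h1 := mul_mem (inv_mem (⟨φ σ, rfl⟩ : MulAut.conj (φ σ) ∈ (MulAut.conj : Fi22 →* MulAut Fi22).range)) h
    rwa [inv_mul_cancel_left] at h1
  · obtain ⟨S, hS⟩ : ∃ S : Subgroup (MulAut Fi22), S =
      closure {MulAut.conj (φ σ) * f, MulAut.conj (φ (swap 0 1) * (g22 .i * g22 .h))} := ⟨_, rfl⟩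
    rw [← hS]
    have m1 : MulAut.conj (φ σ) * f ∈ S := by rw [hS]; exact subset_closure (Set.mem_insert _ _)
    have m2 : MulAut.conj (φ (swap 0 1) * (g22 .i * g22 .h)) ∈ S := by
      rw [hS]; exact subset_closure (Set.mem_insert_of_mem _ (Set.mem_singleton _))
    have s1 : MulAut.conj (φ σ) ∈ S :=
      left_mem_of_pow S (hfc σ).symm (m := 7) (n := 2) (by rw [← map_pow, ← map_pow, hσ7, map_one, map_one])
        (by rw [pow_two]; exact hf3) (by decide) m1
    obtain ⟨Q, hQ⟩ : ∃ Q : Subgroup Fi22, Q = S.comap MulAut.conj := ⟨_, rfl⟩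
    have q1 : φ σ ∈ Q := by rw [hQ]; exact s1
    have q2 : φ (swap 0 1) * (g22 .i * g22 .h) ∈ Q := by rw [hQ]; exact m2
    have k0 : φ (swap 0 1) * (g22 .i * g22 .h) = (g22 .i * g22 .h) * φ (swap 0 1) := by
      rw [e0]
      have h1 : g22 .a * g22 .i = g22 .i * g22 .a := Cox.comm (node _) (node _) (by decide)
      have h2 : g22 .a * g22 .h = g22 .h * g22 .a := Cox.comm (node _) (node _) (by decide)
      rw [← mul_assoc, h1, mul_assoc, h2, mul_assoc]
    have o1 : φ (swap 0 1) ^ 2 = 1 := by rw [pow_two, ← map_mul, swap_mul_self, map_one]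
    have o2 : (g22 .i * g22 .h) ^ 3 = 1 := Cox.cube (node _) (node _) (by decide)
    have q3 : φ (swap 0 1) ∈ Q := left_mem_of_pow Q k0 o1 o2 (by decide) q2
    have q4 : g22 .i * g22 .h ∈ Q := right_mem_of_pow Q k0 o1 o2 (by decide) q2
    have q5 : Q.comap φ = ⊤ := by
      refine FiGen.closure_rot (n := 6) _ ?_ q3
      have h3 : swap 0 1 * σ ∈ Q.comap φ := mul_mem (show swap 0 1 ∈ Q.comap φ from q3) (show σ ∈ Q.comap φ from q1)
      rw [hσ, ← mul_assoc, swap_mul_self, one_mul] at h3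
      exact h3
    have q6 : ∀ i (_ : i < 7), g22 (CoxInst.p22 i) ∈ Q := by
      intro i hi
      rw [← hφ' i hi]
      have h1 : swap (⟨i, by omega⟩ : Fin 8) ⟨i + 1, by omega⟩ ∈ Q.comap φ := by rw [q5]; trivial
      exact h1
    have q7 : g22 .d ∈ Q := q6 3 (by norm_num)
    have q8 : g22 .h ∈ Q := by
      have h1 : (g22 .i * g22 .h)⁻¹ * (g22 .d * (g22 .i * g22 .h) * g22 .d) ∈ Q :=
        mul_mem (inv_mem q4) (mul_mem (mul_mem q7 q4) q7)
      have h2 : g22 .d * g22 .i = g22 .i * g22 .d := Cox.comm (node _) (node _) (by decide)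
      have h3 : g22 .d * g22 .h * g22 .d = g22 .h * g22 .d * g22 .h := Cox.braid (node _) (node _) (by decide)
      have h4 : (g22 .i * g22 .h)⁻¹ * (g22 .d * (g22 .i * g22 .h) * g22 .d) = g22 .d * g22 .h := by
        rw [inv_mul_eq_iff_eq_mul]
        calc g22 .d * (g22 .i * g22 .h) * g22 .d = (g22 .d * g22 .i) * g22 .h * g22 .d := by simp only [mul_assoc]
          _ = g22 .i * (g22 .d * g22 .h * g22 .d) := by rw [h2]; simp only [mul_assoc]
          _ = g22 .i * g22 .h * (g22 .d * g22 .h) := by rw [h3]; simp only [mul_assoc]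
      rw [h4] at h1
      have h5 := mul_mem q7 h1
      rwa [← mul_assoc, hsq, one_mul] at h5
    have q9 : g22 .i ∈ Q := by
      have h1 := mul_mem q4 q8
      rwa [mul_assoc, hsq, mul_one] at h1
    have q10 : Q = ⊤ := by
      refine Cox.eq_top_of_forall _ fun x => ?_
      cases x
      case h => exact q8
      case i => exact q9
      case a => exact q6 0 (by norm_num)
      case b => exact q6 1 (by norm_num)
      case c => exact q6 2 (by norm_num)
      case d => exact q6 3 (by norm_num)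
      case e => exact q6 4 (by norm_num)
      case f => exact q6 5 (by norm_num)
      case g => exact q6 6 (by norm_num)
    rintro _ ⟨x, rfl⟩
    have h1 : x ∈ Q := by rw [q10]; trivial
    rw [hQ] at h1
    exact h1

/-- **`Fi22`** -/
theorem cos2_fi22 {T : Type u} [Group T] (h : Cfsg.Spor.IsoFi22 T) : Cos2 T := by
  obtain ⟨e⟩ := h
  refine cos2_of_equiv e (cos2_of_index_two ?_ CoxInst.fi22 pair22)
  intro a b ha hb
  obtain ⟨x, hx⟩ := Cfsg.Agent.OddHalf.Table.OutFi22.mul_outer a b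
    (fun x hx => ha ⟨x, hx.symm⟩) (fun x hx => hb ⟨x, hx.symm⟩)
  exact ⟨x, hx.symm⟩

end Fi22

section Fi24

/-- **`Fi24'`** -/
theorem cos2_fi24' {T : Type u} [Group T] (h : Cfsg.Spor.IsoFi24' T) : Cos2 T := by
  obtain ⟨e⟩ := h
  have F := Cfsg.Agent.KFacts.FiTF.frame
  have hF : Finite Spor.Fi24 := Cfsg.Agent.R08.FiTwentyFour.finite_Fi24
  have hconj : ∀ α : MulAut Spor.Fi24', ∃ g : Spor.Fi24, α = MulAut.conjNormal g := by
    intro α
    obtain ⟨g, hg⟩ := Cfsg.Agent.KFacts.FiTF.exists_conj α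
    refine ⟨g, ?_⟩
    ext x
    rw [hg, MulAut.conjNormal_apply]
  have hout : ∀ t : Spor.Fi24, t ∉ commutator Spor.Fi24 → ∀ g : Spor.Fi24',
      (MulAut.conjNormal t : MulAut Spor.Fi24') ≠ MulAut.conj g := by
    intro t ht
    refine Cfsg.Agent.H997.OutCard.conjNormal_outer (K := commutator Cfsg.Spor.Fi24) ht fun c hc => ?_
    rcases F.cent c (fun r hr => hc r (F.EK (F.RE hr))) with h | h
    · rw [h]
      exact one_mem _
    · rw [h]
      exact F.EK (F.RE F.zR)
  have hcard := Cfsg.Agent.S2081.result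
  rw [Cfsg.Agent.H997.OutCard.card_out] at hcard
  refine cos2_of_equiv e (cos2_of_index_two ?_ (Cfsg.Agent.H440.TwoGen.Fi24.twoGen_fi24 ⟨MulEquiv.refl _⟩) ?_)
  · intro a b ha hb
    rw [Subgroup.mul_mem_iff_of_index_two hcard]
    exact iff_of_false ha hb
  · obtain ⟨c, b, hc2, hc, hcb⟩ := FiGen.fi24
    have hb : b ∉ commutator Fi24 := by
      intro hb
      have h1 : closure ({c, b} : Set Fi24) ≤ commutator Fi24 := by
        rw [closure_le]
        rintro z (rfl | hz)
        · exact hc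
        · rw [Set.mem_singleton_iff] at hz
          rw [hz]
          exact hb
      rw [hcb, top_le_iff] at h1
      obtain ⟨_, _, t, ht, -⟩ := F.yt
      exact ht (by rw [h1]; trivial)
    refine ⟨MulAut.conjNormal b, ?_, MulAut.conjNormal c, ?_, ?_⟩
    · rintro ⟨g, hg⟩
      exact hout b hb g hg.symm
    · refine ⟨⟨c, hc⟩, ?_⟩
      ext x
      rw [MulAut.conjNormal_apply]
      rfl
    · rintro _ ⟨g, rfl⟩
      have h1 : (g : Fi24) ∈ closure ({c, b} : Set Fi24) := by rw [hcb]; trivial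
      have h2 : (MulAut.conjNormal (g : Fi24) : MulAut Spor.Fi24') ∈
          (closure ({c, b} : Set Fi24)).map (MulAut.conjNormal : Fi24 →* MulAut ↥(commutator Fi24)) := ⟨_, h1, rfl⟩
      rw [MonoidHom.map_closure, Set.image_pair, Set.pair_comm] at h2
      have h3 : (MulAut.conj g : MulAut Spor.Fi24') = MulAut.conjNormal (g : Fi24) := by
        ext x
        rw [MulAut.conjNormal_apply]
        rfl
      rw [h3]
      exact h2

end Fi24

end Cfsg.Agent.H184.DG.CosFi
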